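import Groth.Prelude.Def_SGA3y
import Groth.Agent.S8220
import Mathlib.RingTheory.Coalgebra.Convolution
import Mathlib.RingTheory.Bialgebra.Hom
import Mathlib.RingTheory.Artinian.Ring
import Mathlib.LinearAlgebra.Dual.Lemmas
import Mathlib.LinearAlgebra.TensorProduct.Basis
import Mathlib.RingTheory.Jacobson.Ideal

/-! In a connected cocommutative coalgebra the augmentation is locally nilpotent for convolution. -/

set_option autoImplicit false
set_option linter.unusedSectionVars false
set_option linter.style.haveILetI false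

universe u v

open TensorProduct WithConv

namespace Groth.Agent.MM50

variable {k : Type u} [Field k] {H : Type v} [Ring H] [Bialgebra k H]

/-- The pairing of two functionals against a tensor. -/
noncomputable def pair (θ η : H →ₗ[k] k) : H ⊗[k] H →ₗ[k] k := LinearMap.mul' k k ∘ₗ TensorProduct.map θ η

theorem pair_tmul (θ η : H →ₗ[k] k) (a b : H) : pair θ η (a ⊗ₜ b) = θ a * η b := by
  simp [pair]

theorem eq_of_pair {s t : H ⊗[k] H} (h : ∀ θ η : H →ₗ[k] k, pair θ η s = pair θ η t) : s = t := by
  let b := Module.Basis.ofVectorSpace k H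
  have key : ∀ p, ((b.tensorProduct b).coord p : H ⊗[k] H →ₗ[k] k) = pair (b.coord p.1) (b.coord p.2) := fun p =>
    TensorProduct.ext' fun x y => by
      show (b.tensorProduct b).repr (x ⊗ₜ[k] y) p = _
      rw [pair_tmul, Module.Basis.tensorProduct_repr_tmul_apply, smul_eq_mul, mul_comm]
      rfl
  refine (b.tensorProduct b).ext_elem fun p => ?_
  have := h (b.coord p.1) (b.coord p.2)
  rwa [← key p] at this

theorem pair_comul (θ η : WithConv (H →ₗ[k] k)) (d : H) :
    pair θ.ofConv η.ofConv (CoalgebraStruct.comul (R := k) d) = (θ * η).ofConv d := rfl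

/-- Evaluation at `1`. -/
noncomputable def atOne : WithConv (H →ₗ[k] k) →+* k where
  toFun f := f.ofConv 1
  map_one' := by simp [LinearMap.convOne_def]
  map_mul' f g := by
    rw [← pair_comul, Bialgebra.comul_one, Algebra.TensorProduct.one_def, pair_tmul]
  map_zero' := rfl
  map_add' _ _ := rfl

variable [Coalgebra.IsCocomm k H]

section Fixed

variable (D : Submodule k H)
  (hD : ∀ d ∈ D, CoalgebraStruct.comul (R := k) d ∈ LinearMap.range (TensorProduct.map D.subtype D.subtype))

include hD in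
theorem pair_eq_zero {θ η : H →ₗ[k] k} (h : ∀ d ∈ D, η d = 0) {d : H} (hd : d ∈ D) :
    pair θ η (CoalgebraStruct.comul (R := k) d) = 0 := by
  obtain ⟨t, ht⟩ := hD d hd
  rw [← ht]
  clear ht
  induction t using TensorProduct.induction_on with
  | zero => simp
  | tmul a b => simp [pair_tmul, h b.1 b.2]
  | add a b ha hb => simp [map_add, ha, hb]

include hD in
theorem left_mem (f : H →ₗ[k] k) {d : H} (hd : d ∈ D) :
    TensorProduct.lid k H (f.rTensor H (CoalgebraStruct.comul (R := k) d)) ∈ D := by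
  obtain ⟨t, ht⟩ := hD d hd
  rw [← ht]
  clear ht
  induction t using TensorProduct.induction_on with
  | zero => simp
  | tmul a b => simpa using D.smul_mem _ b.2
  | add a b ha hb => simp only [map_add]; exact D.add_mem ha hb

/-- The functionals vanishing on `D`. -/
def annD : Ideal (WithConv (H →ₗ[k] k)) where
  carrier := {a | ∀ d ∈ D, a.ofConv d = 0 ∧ ∀ b : WithConv (H →ₗ[k] k), (b * a).ofConv d = 0}
  zero_mem' d _ := ⟨rfl, fun b => by simp⟩
  add_mem' {a a'} ha ha' d hd := ⟨by simp [(ha d hd).1, (ha' d hd).1],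
    fun b => by simp [mul_add, (ha d hd).2 b, (ha' d hd).2 b]⟩
  smul_mem' c a ha d hd := ⟨(ha d hd).2 c, fun b => by rw [smul_eq_mul, ← mul_assoc]; exact (ha d hd).2 (b * c)⟩

include hD in
theorem mem_annD {a : WithConv (H →ₗ[k] k)} : a ∈ annD D ↔ ∀ d ∈ D, a.ofConv d = 0 := by
  refine ⟨fun h d hd => (h d hd).1, fun h d hd => ⟨h d hd, fun b => ?_⟩⟩
  exact (pair_comul b a d).symm.trans (pair_eq_zero D hD h hd)

variable [Module.Finite k D]

include hD in
theorem exists_pow_le (h1 : (1 : H) ∈ D) (hconn : SGA3y.IsConnectedCoalg k H) :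
    ∃ N : ℕ, RingHom.ker (atOne (k := k) (H := H)) ^ N ≤ annD D := by
  let Q := WithConv (H →ₗ[k] k) ⧸ annD D
  let ev : WithConv (H →ₗ[k] k) →ₗ[k] Module.Dual k D :=
    { toFun := fun a => a.ofConv ∘ₗ D.subtype
      map_add' := fun a b => rfl
      map_smul' := fun c a => rfl }
  have hev : ∀ a, ev a = 0 ↔ a ∈ annD D := fun a => by
    rw [mem_annD D hD, LinearMap.ext_iff]
    exact ⟨fun h d hd => h ⟨d, hd⟩, fun h d => h d.1 d.2⟩
  have hle : ((annD D).restrictScalars k) ≤ LinearMap.ker ev := fun a ha => (hev a).2 ha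
  haveI : Module.Finite k Q :=
    Module.Finite.of_injective
      ((((annD D).restrictScalars k).liftQ ev hle) ∘ₗ (Submodule.Quotient.restrictScalarsEquiv k (annD D)).symm.toLinearMap)
      ((injective_iff_map_eq_zero _).2 fun x hx => by
        obtain ⟨a, rfl⟩ := Ideal.Quotient.mk_surjective x
        exact Ideal.Quotient.eq_zero_iff_mem.2 ((hev a).1 hx))
  haveI : IsArtinianRing Q := IsArtinianRing.of_finite k Q
  have hmax : ∀ I : Ideal (WithConv (H →ₗ[k] k)), I.IsMaximal → annD D ≤ I → RingHom.ker (atOne (k := k) (H := H)) ≤ I := by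
    intro I hI hDI
    let W := (I.restrictScalars k).map ev
    let C : Submodule k H := W.dualCoannihilator.map D.subtype
    have hC : ∀ d, d ∈ C ↔ d ∈ D ∧ ∀ a ∈ I, a.ofConv d = 0 := by
      intro d
      constructor
      · rintro ⟨d, hd, rfl⟩
        exact ⟨d.2, fun a ha => (Submodule.mem_dualCoannihilator _).1 hd _ ⟨a, ha, rfl⟩⟩
      · rintro ⟨hd, h⟩
        refine ⟨⟨d, hd⟩, (Submodule.mem_dualCoannihilator _).2 ?_, rfl⟩
        rintro _ ⟨a, ha, rfl⟩
        exact h a ha
    have hevI : ∀ a, ev a ∈ W → a ∈ I := by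
      rintro a ⟨b, hb, hab⟩
      rw [show a = b + (a - b) by abel]
      refine add_mem hb (hDI ((hev _).1 ?_))
      rw [map_sub, hab, sub_self]
    have hker : ∀ ξ : H →ₗ[k] k, (∀ d ∈ C, ξ d = 0) → toConv ξ ∈ I := fun ξ hξ => hevI _ (by
      rw [← Subspace.dualCoannihilator_dualAnnihilator_eq (W := W), Submodule.mem_dualAnnihilator]
      exact fun d hd => hξ d.1 ⟨d, hd, rfl⟩)
    have hCne : C ≠ ⊥ := fun h0 => hI.ne_top ((Ideal.eq_top_iff_one I).2 (hker (1 : WithConv (H →ₗ[k] k)).ofConv
      fun d hd => by rw [h0] at hd; rw [(Submodule.mem_bot k).1 hd, map_zero]))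
    obtain ⟨P, hP⟩ := LinearMap.exists_extend (LinearMap.id : C →ₗ[k] C)
    have hP' : ∀ d (hd : d ∈ C), (P d : H) = d := fun d hd => congrArg Subtype.val (LinearMap.congr_fun hP ⟨d, hd⟩)
    have h1C : (1 : H) ∈ C := hconn C (fun d hd => by
      refine ⟨TensorProduct.map P P (CoalgebraStruct.comul (R := k) d), eq_of_pair fun θ η => ?_⟩
      obtain ⟨hdD, hdI⟩ := (hC d).1 hd
      have e1 : pair θ η (TensorProduct.map C.subtype C.subtype (TensorProduct.map P P (CoalgebraStruct.comul (R := k) d))) =
          (toConv (θ ∘ₗ C.subtype ∘ₗ P) * toConv (η ∘ₗ C.subtype ∘ₗ P)).ofConv d := by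
        rw [← pair_comul]
        generalize CoalgebraStruct.comul (R := k) d = t
        induction t using TensorProduct.induction_on with
        | zero => simp
        | tmul a b => simp [pair_tmul]
        | add a b ha hb => simp only [map_add, ha, hb]
      rw [e1, show pair θ η (CoalgebraStruct.comul (R := k) d) = (toConv θ * toConv η).ofConv d from pair_comul (toConv θ) (toConv η) d]
      refine (sub_eq_zero.1 ?_).symm
      rw [← LinearMap.sub_apply, ← WithConv.ofConv_sub]
      refine hdI _ ?_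
      have hd1 : ∀ ξ : H →ₗ[k] k, toConv ξ - toConv (ξ ∘ₗ C.subtype ∘ₗ P) ∈ I := fun ξ => by
        rw [← toConv_sub]
        exact hker _ fun x hx => by simp [hP' x hx]
      rw [show toConv θ * toConv η - toConv (θ ∘ₗ C.subtype ∘ₗ P) * toConv (η ∘ₗ C.subtype ∘ₗ P) =
        (toConv θ - toConv (θ ∘ₗ C.subtype ∘ₗ P)) * toConv η +
          toConv (θ ∘ₗ C.subtype ∘ₗ P) * (toConv η - toConv (η ∘ₗ C.subtype ∘ₗ P)) by
        rw [sub_mul, mul_sub]; abel]
      exact add_mem (Ideal.mul_mem_right _ _ (hd1 θ)) (Ideal.mul_mem_left _ _ (hd1 η))) hCne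
    obtain ⟨h1D, hI1⟩ := (hC 1).1 h1C
    have hIm : I ≤ RingHom.ker (atOne (k := k) (H := H)) := fun a ha => hI1 a ha
    exact (hI.eq_of_le (RingHom.ker_ne_top _) hIm).ge
  let m' := (RingHom.ker (atOne (k := k) (H := H))).map (Ideal.Quotient.mk (annD D))
  have hm' : m' ≤ Ideal.jacobson (⊥ : Ideal Q) := le_sInf fun I hI => by
    haveI := hI.2
    refine Ideal.map_le_iff_le_comap.2 (hmax _ (Ideal.comap_isMaximal_of_surjective _ Ideal.Quotient.mk_surjective) ?_)
    intro a ha
    rw [Ideal.mem_comap, Ideal.Quotient.eq_zero_iff_mem.2 ha]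
    exact zero_mem _
  obtain ⟨N, hN⟩ := IsArtinianRing.isNilpotent_jacobson_bot (R := Q)
  refine ⟨N, fun a ha => Ideal.Quotient.eq_zero_iff_mem.1 ?_⟩
  have : Ideal.Quotient.mk (annD D) a ∈ m' ^ N := by
    have hmp : (RingHom.ker (atOne (k := k) (H := H)) ^ N).map (Ideal.Quotient.mk (annD D)) = m' ^ N :=
      Ideal.map_pow (R := WithConv (H →ₗ[k] k)) (S := Q) (Ideal.Quotient.mk (annD D)) _ N
    rw [← hmp]
    exact Ideal.mem_map_of_mem _ ha
  have := Ideal.pow_right_mono hm' N this
  rwa [hN] at this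

end Fixed

/-- `id - ηε`. -/
noncomputable def J : WithConv (H →ₗ[k] H) := toConv LinearMap.id - 1

theorem J_one : (J : WithConv (H →ₗ[k] H)).ofConv 1 = 0 := by
  simp [J, LinearMap.convOne_def]

theorem J_pow_eq_zero (D : Submodule k H)
    (hD : ∀ d ∈ D, CoalgebraStruct.comul (R := k) d ∈ LinearMap.range (TensorProduct.map D.subtype D.subtype)) :
    ∀ (n : ℕ), ∀ d ∈ D, (∀ g ∈ RingHom.ker (atOne (k := k) (H := H)) ^ n, g.ofConv d = 0) →
      ((J : WithConv (H →ₗ[k] H)) ^ n).ofConv d = 0 := by
  classical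
  intro n
  induction n with
  | zero =>
    intro d _ h
    have h1 := h 1 (by simp [Submodule.pow_zero])
    rw [pow_zero]
    simp [LinearMap.convOne_def] at h1 ⊢
    rw [h1, map_zero]
  | succ n ih =>
    intro d hd h
    let b := Module.Basis.ofVectorSpace k H
    let c : _ → H := fun l => TensorProduct.lid k H ((b.coord l).rTensor H (CoalgebraStruct.comul (R := k) d))
    have hrep : ∀ t : H ⊗[k] H, ∃ s : Finset _, ∀ s', s ⊆ s' →
        t = ∑ l ∈ s', b l ⊗ₜ[k] TensorProduct.lid k H ((b.coord l).rTensor H t) := by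
      intro t
      induction t using TensorProduct.induction_on with
      | zero => exact ⟨∅, fun s' _ => by simp⟩
      | tmul x y =>
        refine ⟨(b.repr x).support, fun s' hs' => ?_⟩
        simp only [LinearMap.rTensor_tmul, TensorProduct.lid_tmul, Module.Basis.coord_apply, TensorProduct.tmul_smul,
          TensorProduct.smul_tmul', ← TensorProduct.sum_tmul]
        congr 1
        conv_lhs => rw [← b.linearCombination_repr x, Finsupp.linearCombination_apply]
        exact Finsupp.sum_of_support_subset _ hs' _ fun l _ => zero_smul _ _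
      | add x y hx hy =>
        obtain ⟨s, hs⟩ := hx
        obtain ⟨s2, hs2⟩ := hy
        refine ⟨s ∪ s2, fun s' hs' => ?_⟩
        conv_lhs => rw [hs s' (Finset.union_subset_left hs'), hs2 s' (Finset.union_subset_right hs')]
        simp [TensorProduct.tmul_add, Finset.sum_add_distrib]
    obtain ⟨s, hs⟩ := hrep (CoalgebraStruct.comul (R := k) d)
    let s' := s ∪ (b.repr 1).support
    have hzero : ∀ l, ((J : WithConv (H →ₗ[k] H)) ^ n).ofConv (c l) = b.coord l 1 • ((J : WithConv (H →ₗ[k] H)) ^ n).ofConv d := by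
      intro l
      rw [← map_smul, ← sub_eq_zero, ← map_sub]
      let f' : WithConv (H →ₗ[k] k) := toConv (b.coord l) - b.coord l 1 • 1
      have hc : c l - b.coord l 1 • d = TensorProduct.lid k H (f'.ofConv.rTensor H (CoalgebraStruct.comul (R := k) d)) := by
        simp [c, f', LinearMap.rTensor_sub, LinearMap.rTensor_smul, LinearMap.convOne_def, Coalgebra.rTensor_counit_comul]
      rw [hc]
      refine ih _ (left_mem D hD _ hd) fun g hg => ?_
      have hmul : ∀ t : H ⊗[k] H, g.ofConv (TensorProduct.lid k H (f'.ofConv.rTensor H t)) = pair f'.ofConv g.ofConv t := by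
        intro t
        induction t using TensorProduct.induction_on with
        | zero => simp
        | tmul x y => simp [pair_tmul]
        | add x y hx hy => simp only [map_add, hx, hy]
      rw [hmul, pair_comul]
      refine h _ ?_
      refine (pow_succ' (RingHom.ker (atOne (k := k) (H := H))) n).ge (Ideal.mul_mem_mul ?_ hg)
      simp [RingHom.mem_ker, atOne, f', LinearMap.convOne_def]
    rw [pow_succ', LinearMap.convMul_def]
    show LinearMap.mul' k H (TensorProduct.map _ _ (CoalgebraStruct.comul (R := k) d)) = 0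
    rw [hs s' Finset.subset_union_left, map_sum, map_sum]
    simp only [TensorProduct.map_tmul, LinearMap.mul'_apply]
    refine (Finset.sum_congr rfl fun l _ => ?_).trans ((Finset.sum_mul s'
      (fun l => (J : WithConv (H →ₗ[k] H)).ofConv (b.coord l 1 • b l))
      (((J : WithConv (H →ₗ[k] H)) ^ n).ofConv d)).symm.trans ?_)
    · rw [map_smul, smul_mul_assoc, ← mul_smul_comm, ← hzero l]
    rw [← map_sum]
    rw [show ∑ l ∈ s', b.coord l 1 • b l = 1 from ?_, J_one, zero_mul]
    conv_rhs => rw [← b.linearCombination_repr (1 : H), Finsupp.linearCombination_apply]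
    exact (Finsupp.sum_of_support_subset (b.repr 1) Finset.subset_union_right (fun l (a : k) => a • b l)
      fun l _ => zero_smul k (b l)).symm

/-- Local nilpotence. -/
theorem exists_nil (hconn : SGA3y.IsConnectedCoalg k H) (h : H) :
    ∃ N : ℕ, ∀ n, N ≤ n → ((J : WithConv (H →ₗ[k] H)) ^ n).ofConv h = 0 := by
  classical
  obtain ⟨D, hfin, hsub, hD⟩ := S8220.result (k := k) ({h, 1} : Finset H)
  obtain ⟨N, hN⟩ := exists_pow_le D hD (hsub (by simp)) hconn
  exact ⟨N, fun n hn => J_pow_eq_zero D hD n h (hsub (by simp)) fun g hg =>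
    (mem_annD D hD).1 (hN (Ideal.pow_le_pow_right hn hg)) h (hsub (by simp))⟩

end Groth.Agent.MM50
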