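import Groth.Agent.MM50.Conn
import Mathlib.RingTheory.Polynomial.Pochhammer
import Mathlib.Algebra.Polynomial.Roots
import Mathlib.Algebra.Polynomial.AlgebraMap
import Mathlib.Data.Nat.Choose.Sum
import Mathlib.Data.Nat.Choose.Cast

/-! Surjectivity: a connected cocommutative bialgebra in characteristic zero is generated by its primitives. -/

set_option autoImplicit false
set_option linter.unusedSectionVars false
set_option linter.style.haveILetI false

universe u v

open TensorProduct WithConv Polynomial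

namespace Groth.Agent.MM50

variable {k : Type u} [Field k] {H : Type v} [Ring H] [Bialgebra k H]

local notation "E₂" => WithConv (H →ₗ[k] H)

/-- Coefficients of `log (1 + X)`. -/
noncomputable def cof (j : ℕ) : k := (-1) ^ (j + 1) / j

/-- The truncated logarithm. -/
noncomputable def eP (M : ℕ) : k[X] := ∑ j ∈ Finset.Icc 1 M, C (cof j) * X ^ j

/-- Vanishing of all convolution powers from `N` on. -/
def NilAt (N : ℕ) (h : H) : Prop := ∀ n, N ≤ n → ((J : E₂) ^ n).ofConv h = 0

theorem NilAt.mono {N M : ℕ} {h : H} (hN : NilAt (k := k) N h) (hle : N ≤ M) : NilAt (k := k) M h :=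
  fun n hn => hN n (hle.trans hn)

theorem aeval_apply (p : k[X]) (h : H) :
    (aeval (J : E₂) p).ofConv h = ∑ i ∈ p.support, p.coeff i • ((J : E₂) ^ i).ofConv h := by
  rw [aeval_eq_sum_range' (Nat.lt_succ_self p.natDegree), WithConv.ofConv_sum, LinearMap.sum_apply]
  simp only [WithConv.ofConv_smul, LinearMap.smul_apply]
  refine (Finset.sum_subset (fun i hi => Finset.mem_range.2 (Nat.lt_succ_of_le (le_natDegree_of_mem_supp i hi)))
    fun i _ hi => ?_).symm
  rw [notMem_support_iff.1 hi, zero_smul]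

theorem aeval_mem {S : Submodule k H} {p : k[X]} {h : H} {l : ℕ} (hl : X ^ l ∣ p)
    (hS : ∀ i, l ≤ i → ((J : E₂) ^ i).ofConv h ∈ S) : (aeval (J : E₂) p).ofConv h ∈ S := by
  rw [aeval_apply]
  refine S.sum_mem fun i hi => S.smul_mem _ (hS i ?_)
  by_contra hil
  push Not at hil
  exact mem_support_iff.1 hi (Polynomial.X_pow_dvd_iff.1 hl i hil)

theorem aeval_eq_of_dvd {p r : k[X]} {h : H} {N : ℕ} (hN : NilAt (k := k) N h) (hd : X ^ N ∣ p - r) :
    (aeval (J : E₂) p).ofConv h = (aeval (J : E₂) r).ofConv h := by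
  have := aeval_mem (S := (⊥ : Submodule k H)) hd fun i hi => (Submodule.mem_bot k).2 (hN i hi)
  rw [Submodule.mem_bot, map_sub, WithConv.ofConv_sub, LinearMap.sub_apply] at this
  exact sub_eq_zero.1 this

theorem eP_sub {M M' : ℕ} (h : M ≤ M') : X ^ (M + 1) ∣ eP (k := k) M' - eP M := by
  rw [eP, eP, ← Finset.sum_sdiff (Finset.Icc_subset_Icc_right h), add_sub_cancel_right]
  refine Finset.dvd_sum fun j hj => Dvd.dvd.mul_left (pow_dvd_pow _ ?_) _
  simp only [Finset.mem_sdiff, Finset.mem_Icc] at hj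
  omega

/-- The binomial polynomial. -/
noncomputable def bin (i : ℕ) : k[X] := C ((i.factorial : k)⁻¹) * descPochhammer k i

theorem coeff_desc_zero : ∀ i, 1 ≤ i → (descPochhammer k i).coeff 0 = 0 := by
  intro i hi
  rw [coeff_zero_eq_eval_zero]
  exact descPochhammer_ne_zero_eval_zero k (by omega)

theorem coeff_desc_one : ∀ n, (descPochhammer k (n + 1)).coeff 1 = (-1) ^ n * (n.factorial : k) := by
  intro n
  induction n with
  | zero => simp
  | succ n ih =>
    rw [descPochhammer_succ_right k (n + 1), mul_sub, coeff_sub, ← C_eq_natCast, coeff_mul_C, ih, Nat.factorial_succ,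
      coeff_mul_X, coeff_desc_zero _ (Nat.succ_pos n), pow_succ]
    push_cast
    ring

variable [CharZero k]

theorem eval_bin (i m : ℕ) : (bin (k := k) i).eval (m : k) = (m.choose i : k) := by
  rw [bin, eval_mul, eval_C, descPochhammer_eval_eq_descFactorial, Nat.descFactorial_eq_factorial_mul_choose,
    Nat.cast_mul, ← mul_assoc, inv_mul_cancel₀ (Nat.cast_ne_zero.2 (Nat.factorial_ne_zero i)), one_mul]

theorem coeff_bin_zero (i : ℕ) : (bin (k := k) i).coeff 0 = if i = 0 then 1 else 0 := by
  rw [bin, coeff_C_mul]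
  by_cases hi : i = 0
  · subst hi; simp
  · rw [if_neg hi, coeff_desc_zero i (by omega), mul_zero]

theorem coeff_bin_one (i : ℕ) : (bin (k := k) i).coeff 1 = if i = 0 then 0 else cof i := by
  rw [bin, coeff_C_mul]
  cases i with
  | zero => simp [coeff_one]
  | succ n =>
    rw [if_neg (Nat.succ_ne_zero n), coeff_desc_one, cof, Nat.factorial_succ]
    have h1 : (n.factorial : k) ≠ 0 := Nat.cast_ne_zero.2 (Nat.factorial_ne_zero n)
    have h2 : ((n : k) + 1) ≠ 0 := by exact_mod_cast Nat.succ_ne_zero n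
    push_cast
    field_simp
    ring

variable [Coalgebra.IsCocomm k H]

theorem sum_eq_of_le {N : ℕ} {h : H} (hN : NilAt (k := k) N h) (f : ℕ → k) {s : Finset ℕ} (hs : Finset.range N ⊆ s) :
    ∑ i ∈ s, f i • ((J : E₂) ^ i).ofConv h = ∑ i ∈ Finset.range N, f i • ((J : E₂) ^ i).ofConv h :=
  (Finset.sum_subset hs fun i _ hi => by rw [hN i (by simpa using hi), smul_zero]).symm

theorem id_pow_apply {N : ℕ} {h : H} (hN : NilAt (k := k) N h) (m : ℕ) :
    ((toConv LinearMap.id : E₂) ^ m).ofConv h =
      ∑ i ∈ Finset.range N, ((bin (k := k) i).eval (m : k)) • ((J : E₂) ^ i).ofConv h := by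
  have e : (toConv LinearMap.id : E₂) = J + 1 := (sub_add_cancel _ _).symm
  rw [e, (Commute.one_right J).add_pow, WithConv.ofConv_sum, LinearMap.sum_apply]
  simp only [one_pow, mul_one, eval_bin]
  rw [← sum_eq_of_le hN _ (s := Finset.range (max (m + 1) N)) (Finset.range_mono (le_max_right _ _))]
  refine (Finset.sum_subset (Finset.range_mono (le_max_left _ _)) fun i _ hi => ?_).trans
    (Finset.sum_congr rfl fun i _ => ?_)
  · rw [Finset.mem_range, not_lt] at hi
    simp [Nat.choose_eq_zero_of_lt (by omega : m < i)]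
  · rw [← nsmul_eq_mul', WithConv.ofConv_smul, LinearMap.smul_apply, Nat.cast_smul_eq_nsmul]

theorem eP_apply {N : ℕ} {h : H} (hN : NilAt (k := k) (N + 1) h) :
    (aeval (J : E₂) (eP (k := k) N)).ofConv h =
      ∑ i ∈ Finset.range (N + 1), (bin (k := k) i).coeff 1 • ((J : E₂) ^ i).ofConv h := by
  rw [eP, map_sum, WithConv.ofConv_sum, LinearMap.sum_apply]
  simp only [map_mul, aeval_C, map_pow, aeval_X, ← Algebra.smul_def, WithConv.ofConv_smul, LinearMap.smul_apply]
  refine (Finset.sum_congr rfl fun i hi => ?_).trans (Finset.sum_subset (fun i hi => ?_) fun i hi hi' => ?_)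
  · rw [coeff_bin_one, if_neg (by simp only [Finset.mem_Icc] at hi; omega)]
  · simp only [Finset.mem_Icc, Finset.mem_range] at hi ⊢
    omega
  · simp only [Finset.mem_Icc, Finset.mem_range] at hi hi'
    rw [coeff_bin_one, if_pos (by omega), zero_smul]

/-- The left embedding. -/
noncomputable def inl : H →ₐ[k] H ⊗[k] H := Algebra.TensorProduct.includeLeft

/-- The right embedding. -/
noncomputable def inr : H →ₐ[k] H ⊗[k] H := Algebra.TensorProduct.includeRight

theorem comp_pow {A' : Type v} [Ring A'] [Algebra k A'] (g : H →ₐ[k] A') (f : E₂) : ∀ m : ℕ,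
    toConv (g.toLinearMap ∘ₗ (f ^ m).ofConv) = toConv (g.toLinearMap ∘ₗ f.ofConv) ^ m := by
  intro m
  induction m with
  | zero =>
    rw [pow_zero, pow_zero]
    ext x
    simp [LinearMap.convOne_def]
  | succ m ih =>
    rw [pow_succ, pow_succ, ← ih, LinearMap.algHom_comp_convMul_distrib]

theorem inl_mul_inr :
    toConv (inl.toLinearMap ∘ₗ LinearMap.id) * toConv (inr.toLinearMap ∘ₗ LinearMap.id) =
      toConv (Bialgebra.comulAlgHom k H).toLinearMap ∧
    toConv (inr.toLinearMap ∘ₗ LinearMap.id) * toConv (inl.toLinearMap ∘ₗ LinearMap.id) =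
      toConv (Bialgebra.comulAlgHom k H).toLinearMap := by
  have h1 : ∀ t : H ⊗[k] H, LinearMap.mul' k (H ⊗[k] H)
      (TensorProduct.map (inl.toLinearMap ∘ₗ LinearMap.id) (inr.toLinearMap ∘ₗ LinearMap.id) t) = t := fun t => by
    induction t using TensorProduct.induction_on with
    | zero => simp
    | tmul a b => simp [inl, inr]
    | add a b ha hb => simp only [map_add, ha, hb]
  have h2 : ∀ t : H ⊗[k] H, LinearMap.mul' k (H ⊗[k] H)
      (TensorProduct.map (inr.toLinearMap ∘ₗ LinearMap.id) (inl.toLinearMap ∘ₗ LinearMap.id) t) =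
        TensorProduct.comm k H H t := fun t => by
    induction t using TensorProduct.induction_on with
    | zero => simp
    | tmul a b => simp [inl, inr]
    | add a b ha hb => simp only [map_add, ha, hb]
  constructor
  · refine WithConv.ofConv_injective (LinearMap.ext fun x => ?_)
    rw [LinearMap.convMul_apply]
    exact h1 _
  · refine WithConv.ofConv_injective (LinearMap.ext fun x => ?_)
    rw [LinearMap.convMul_apply]
    exact (h2 _).trans (Coalgebra.comm_comul k x)

theorem comul_id_pow (m : ℕ) (h : H) {ι : Type} (s : Finset ι) (a b : ι → H)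
    (hs : CoalgebraStruct.comul (R := k) h = ∑ i ∈ s, a i ⊗ₜ b i) :
    CoalgebraStruct.comul (R := k) (((toConv LinearMap.id : E₂) ^ m).ofConv h) =
      ∑ i ∈ s, ((toConv LinearMap.id : E₂) ^ m).ofConv (a i) ⊗ₜ ((toConv LinearMap.id : E₂) ^ m).ofConv (b i) := by
  have e1 := comp_pow (Bialgebra.comulAlgHom k H) (toConv LinearMap.id : E₂) m
  have e2 : toConv ((Bialgebra.comulAlgHom k H).toLinearMap ∘ₗ ((toConv LinearMap.id : E₂) ^ m).ofConv) =
      toConv (inl.toLinearMap ∘ₗ ((toConv LinearMap.id : E₂) ^ m).ofConv) *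
        toConv (inr.toLinearMap ∘ₗ ((toConv LinearMap.id : E₂) ^ m).ofConv) := by
    rw [e1, comp_pow, comp_pow,
      ← (show Commute (toConv (inl.toLinearMap ∘ₗ LinearMap.id)) (toConv (inr.toLinearMap ∘ₗ LinearMap.id)) from
        inl_mul_inr.1.trans inl_mul_inr.2.symm).mul_pow, inl_mul_inr.1]
    rfl
  have := LinearMap.congr_fun (congrArg WithConv.ofConv e2) h
  rw [LinearMap.convMul_apply, hs, map_sum, map_sum] at this
  refine this.trans (Finset.sum_congr rfl fun i _ => ?_)
  simp [inl, inr]

theorem exists_rep (h : H) :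
    ∃ (n : ℕ) (a b : Fin n → H), CoalgebraStruct.comul (R := k) h = ∑ i, a i ⊗ₜ b i := by
  suffices hh : ∀ t : H ⊗[k] H, ∃ (n : ℕ) (a b : Fin n → H), t = ∑ i, a i ⊗ₜ b i from hh _
  intro t
  induction t using TensorProduct.induction_on with
  | zero => exact ⟨0, Fin.elim0, Fin.elim0, by simp⟩
  | tmul a b => exact ⟨1, fun _ => a, fun _ => b, by simp⟩
  | add x y hx hy =>
    obtain ⟨n, a, b, rfl⟩ := hx
    obtain ⟨n', a', b', rfl⟩ := hy
    exact ⟨n + n', Fin.append a a', Fin.append b b', by simp [Fin.sum_univ_add]⟩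

theorem counit_sum_right {ι : Type} (s : Finset ι) (a b : ι → H) (h : H)
    (hs : CoalgebraStruct.comul (R := k) h = ∑ i ∈ s, a i ⊗ₜ b i) :
    ∑ i ∈ s, CoalgebraStruct.counit (R := k) (b i) • a i = h ∧
      ∑ i ∈ s, CoalgebraStruct.counit (R := k) (a i) • b i = h := by
  have h1 := congrArg (TensorProduct.rid k H) (Coalgebra.lTensor_counit_comul (R := k) h)
  have h2 := congrArg (TensorProduct.lid k H) (Coalgebra.rTensor_counit_comul (R := k) h)
  rw [hs, map_sum, map_sum] at h1 h2
  simp only [LinearMap.lTensor_tmul, LinearMap.rTensor_tmul, TensorProduct.rid_tmul, TensorProduct.lid_tmul, one_smul] at h1 h2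
  exact ⟨h1, h2⟩

variable (hnil : ∀ h : H, ∃ N, NilAt (k := k) N h)

theorem sum_range_coeff {M : Type*} [AddCommGroup M] [Module k M] (N : ℕ) (hN : 0 < N) (f : ℕ → M) :
    ∑ i ∈ Finset.range N, (bin (k := k) i).coeff 0 • f i = f 0 := by
  rw [Finset.sum_eq_single_of_mem 0 (Finset.mem_range.2 hN) fun i _ hi => by rw [coeff_bin_zero, if_neg hi, zero_smul],
    coeff_bin_zero, if_pos rfl, one_smul]

include hnil in
theorem eP_mem_prim {h : H} {M : ℕ} (hM : NilAt (k := k) (M + 1) h) :
    (aeval (J : E₂) (eP (k := k) M)).ofConv h ∈ SGA3y.primLie k H := by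
  obtain ⟨n, a, b, hrep⟩ := exists_rep (k := k) h
  choose Na hNa using fun i => hnil (a i)
  choose Nb hNb using fun i => hnil (b i)
  let B := max M (Finset.univ.sup fun i => max (Na i) (Nb i))
  have hBa : ∀ i, NilAt (k := k) (B + 1) (a i) := fun i => (hNa i).mono
    (le_trans (le_trans (le_max_left _ _) (Finset.le_sup (f := fun i => max (Na i) (Nb i)) (Finset.mem_univ i)))
      (le_trans (le_max_right _ _) (Nat.le_succ _)))
  have hBb : ∀ i, NilAt (k := k) (B + 1) (b i) := fun i => (hNb i).mono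
    (le_trans (le_trans (le_max_right _ _) (Finset.le_sup (f := fun i => max (Na i) (Nb i)) (Finset.mem_univ i)))
      (le_trans (le_max_right _ _) (Nat.le_succ _)))
  have hBh : NilAt (k := k) (B + 1) h := hM.mono (Nat.succ_le_succ (le_max_left _ _))
  rw [aeval_eq_of_dvd hM (dvd_sub_comm.1 (eP_sub (le_max_left M _)))]
  show CoalgebraStruct.comul (R := k) ((aeval (J : E₂) (eP (k := k) B)).ofConv h) =
    (aeval (J : E₂) (eP (k := k) B)).ofConv h ⊗ₜ[k] (1 : H) + (1 : H) ⊗ₜ[k] (aeval (J : E₂) (eP (k := k) B)).ofConv h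
  refine (Module.forall_dual_apply_eq_zero_iff k _).1 ?_ |> sub_eq_zero.1
  intro θ
  rw [map_sub, sub_eq_zero]
  let p : k[X] := ∑ i ∈ Finset.range (B + 1), C (θ (CoalgebraStruct.comul (R := k) (((J : E₂) ^ i).ofConv h))) * bin i
  let r : k[X] := ∑ s, ∑ i ∈ Finset.range (B + 1), ∑ l ∈ Finset.range (B + 1),
    C (θ (((J : E₂) ^ i).ofConv (a s) ⊗ₜ[k] ((J : E₂) ^ l).ofConv (b s))) * (bin i * bin l)
  have hpr : p = r := by
    refine Polynomial.eq_of_infinite_eval_eq p r (Set.Infinite.mono (s := Set.range ((↑) : ℕ → k)) ?_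
      (Set.infinite_range_of_injective Nat.cast_injective))
    rintro _ ⟨m, rfl⟩
    have hc := congrArg θ (comul_id_pow m h Finset.univ a b hrep)
    rw [id_pow_apply hBh, map_sum, map_sum, map_sum] at hc
    simp only [id_pow_apply (hBa _), id_pow_apply (hBb _), TensorProduct.sum_tmul, TensorProduct.tmul_sum,
      ← TensorProduct.smul_tmul', TensorProduct.tmul_smul, map_sum, map_smul, smul_eq_mul] at hc
    simp only [Set.mem_setOf_eq, p, r, eval_finsetSum, eval_mul, eval_C]
    refine (Finset.sum_congr rfl fun i _ => mul_comm _ _).trans (hc.trans (Finset.sum_congr rfl fun s _ => ?_))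
    simp only [Finset.mul_sum]
    rw [Finset.sum_comm]
    exact Finset.sum_congr rfl fun i _ => Finset.sum_congr rfl fun l _ => by ring
  have h1 := congrArg (fun q : k[X] => q.coeff 1) hpr
  simp only [p, r, finsetSum_coeff, coeff_C_mul] at h1
  have hbil : ∀ i l, (bin (k := k) i * bin l).coeff 1 =
      (bin (k := k) i).coeff 0 * (bin (k := k) l).coeff 1 + (bin (k := k) i).coeff 1 * (bin (k := k) l).coeff 0 :=
    fun i l => by rw [coeff_mul, Finset.Nat.antidiagonal_succ]; simp
  simp only [hbil, mul_add, Finset.sum_add_distrib] at h1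
  have h0 : ∀ x : H, ((J : E₂) ^ 0).ofConv x = CoalgebraStruct.counit (R := k) x • (1 : H) := fun x => by
    simp [LinearMap.convOne_def, Algebra.algebraMap_eq_smul_one]
  have hL : θ (CoalgebraStruct.comul (R := k) ((aeval (J : E₂) (eP (k := k) B)).ofConv h)) =
      ∑ i ∈ Finset.range (B + 1), θ (CoalgebraStruct.comul (R := k) (((J : E₂) ^ i).ofConv h)) * (bin i).coeff 1 := by
    rw [eP_apply hBh, map_sum, map_sum]
    exact Finset.sum_congr rfl fun i _ => by rw [map_smul, map_smul, smul_eq_mul, mul_comm]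
  obtain ⟨hca, hcb⟩ := counit_sum_right Finset.univ a b h hrep
  rw [hL, h1, map_add, add_comm (θ (_ ⊗ₜ[k] (1 : H)))]
  congr 1
  · -- the right terms
    conv_rhs => rw [← hcb, map_sum, TensorProduct.tmul_sum, map_sum]
    refine Finset.sum_congr rfl fun s _ => ?_
    rw [Finset.sum_comm, map_smul, TensorProduct.tmul_smul, map_smul, smul_eq_mul, eP_apply (hBb s),
      TensorProduct.tmul_sum, map_sum, Finset.mul_sum]
    refine Finset.sum_congr rfl fun l _ => ?_
    rw [show ∑ i ∈ Finset.range (B + 1), θ (((J : E₂) ^ i).ofConv (a s) ⊗ₜ[k] ((J : E₂) ^ l).ofConv (b s)) *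
        ((bin (k := k) i).coeff 0 * (bin (k := k) l).coeff 1) = ∑ i ∈ Finset.range (B + 1), (bin (k := k) i).coeff 0 •
        (θ (((J : E₂) ^ i).ofConv (a s) ⊗ₜ[k] ((J : E₂) ^ l).ofConv (b s)) * (bin (k := k) l).coeff 1) from
        Finset.sum_congr rfl fun i _ => by rw [smul_eq_mul]; ring, sum_range_coeff _ (Nat.succ_pos _), h0,
      ← TensorProduct.smul_tmul', TensorProduct.tmul_smul, map_smul, map_smul, smul_eq_mul, smul_eq_mul]
    ring
  · conv_rhs => rw [← hca, map_sum, TensorProduct.sum_tmul, map_sum]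
    refine Finset.sum_congr rfl fun s _ => ?_
    rw [map_smul, ← TensorProduct.smul_tmul', map_smul, smul_eq_mul, eP_apply (hBa s),
      TensorProduct.sum_tmul, map_sum, Finset.mul_sum]
    refine Finset.sum_congr rfl fun i _ => ?_
    rw [show ∑ l ∈ Finset.range (B + 1), θ (((J : E₂) ^ i).ofConv (a s) ⊗ₜ[k] ((J : E₂) ^ l).ofConv (b s)) *
        ((bin (k := k) i).coeff 1 * (bin (k := k) l).coeff 0) = ∑ l ∈ Finset.range (B + 1), (bin (k := k) l).coeff 0 •
        (θ (((J : E₂) ^ i).ofConv (a s) ⊗ₜ[k] ((J : E₂) ^ l).ofConv (b s)) * (bin (k := k) i).coeff 1) from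
        Finset.sum_congr rfl fun l _ => by rw [smul_eq_mul]; ring, sum_range_coeff _ (Nat.succ_pos _), h0,
      ← TensorProduct.smul_tmul', TensorProduct.tmul_smul, map_smul, map_smul, smul_eq_mul, smul_eq_mul]
    ring

include hnil in
/-- The algebra generated by the primitive elements is everything. -/
theorem prim_generates (S : Subalgebra k H) (hS : ∀ x ∈ SGA3y.primLie k H, x ∈ S) (h : H) : h ∈ S := by
  classical
  have hpow : ∀ (j : ℕ) (h : H) (M : ℕ), NilAt (k := k) (M + 1) h →
      (aeval (J : E₂) (eP (k := k) M ^ j)).ofConv h ∈ S := by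
    intro j
    induction j with
    | zero =>
      intro h M _
      rw [pow_zero, map_one]
      simp only [LinearMap.convOne_def]
      exact S.algebraMap_mem _
    | succ j ih =>
      intro h M hM
      obtain ⟨n, a, b, hrep⟩ := exists_rep (k := k) h
      choose Na hNa using fun i => hnil (a i)
      choose Nb hNb using fun i => hnil (b i)
      let B := max M (Finset.univ.sup fun i => max (Na i) (Nb i))
      have hBa : ∀ i, NilAt (k := k) (B + 1) (a i) := fun i => (hNa i).mono
        (le_trans (le_trans (le_max_left _ _) (Finset.le_sup (f := fun i => max (Na i) (Nb i)) (Finset.mem_univ i)))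
          (le_trans (le_max_right _ _) (Nat.le_succ _)))
      have hBb : ∀ i, NilAt (k := k) (B + 1) (b i) := fun i => (hNb i).mono
        (le_trans (le_trans (le_max_right _ _) (Finset.le_sup (f := fun i => max (Na i) (Nb i)) (Finset.mem_univ i)))
          (le_trans (le_max_right _ _) (Nat.le_succ _)))
      rw [aeval_eq_of_dvd hM ((dvd_sub_comm.1 (eP_sub (le_max_left M _))).trans (sub_dvd_pow_sub_pow _ _ _)),
        pow_succ', map_mul, LinearMap.convMul_apply, hrep, map_sum, map_sum]
      refine S.sum_mem fun i _ => ?_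
      rw [TensorProduct.map_tmul, LinearMap.mul'_apply]
      exact S.mul_mem (hS _ (eP_mem_prim hnil (hBa i))) (ih _ _ (hBb i))
  obtain ⟨N, hN⟩ := hnil h
  have hJ : ∀ d l, N ≤ l + d → ((J : E₂) ^ l).ofConv h ∈ S := by
    intro d
    induction d with
    | zero => intro l hl; rw [hN l (by omega)]; exact S.zero_mem
    | succ d ihd =>
      intro l hl
      by_cases hlt : N ≤ l + d
      · exact ihd l hlt
      have hN1 : NilAt (k := k) (N + 1) h := hN.mono (Nat.le_succ N)
      have h1 : X ^ 2 ∣ eP (k := k) N - X := by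
        have h := eP_sub (k := k) (show 1 ≤ N by omega)
        rwa [show eP (k := k) 1 = X by simp [eP, cof]] at h
      obtain ⟨r, hr⟩ := h1
      have hz : eP (k := k) N = X * (1 + X * r) := by
        have := sub_add_cancel (eP (k := k) N) (X : k[X])
        rw [hr] at this
        rw [← this]
        ring
      have h2 : (X : k[X]) ^ (l + 1) ∣ eP (k := k) N ^ l - X ^ l := by
        have hd := (dvd_mul_right (X : k[X]) r).trans
          (show X * r ∣ (1 + X * r) ^ l - 1 ^ l by
            have := sub_dvd_pow_sub_pow (1 + X * r) 1 l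
            rwa [show (1 : k[X]) + X * r - 1 = X * r by ring] at this)
        rw [one_pow] at hd
        have he := mul_dvd_mul_left ((X : k[X]) ^ l) hd
        rw [hz, mul_pow]
        rw [← pow_succ, mul_sub, mul_one] at he
        exact he
      have h3 := aeval_mem (S := S.toSubmodule) h2 fun i hi => ihd i (by omega)
      rw [map_sub, WithConv.ofConv_sub, LinearMap.sub_apply, map_pow (aeval (J : E₂)) X, aeval_X] at h3
      have h4 : (aeval (J : E₂) (eP (k := k) N ^ l)).ofConv h ∈ S.toSubmodule := hpow l h N hN1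
      simpa using S.toSubmodule.sub_mem h4 h3
  have h1 := hJ N 1 (by omega)
  rw [pow_one, J, WithConv.ofConv_sub, LinearMap.sub_apply] at h1
  have h2 : (1 : E₂).ofConv h ∈ S := by
    simp only [LinearMap.convOne_def]
    exact S.algebraMap_mem _
  simpa using S.add_mem h1 h2

end Groth.Agent.MM50
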