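import Groth.Agent.MM50.Euler
import Mathlib.Data.List.Sort
import Mathlib.LinearAlgebra.LinearIndependent.Lemmas

/-! Ordered monomials in independent primitive elements are linearly independent in characteristic zero. -/

set_option autoImplicit false
set_option linter.unusedSectionVars false
set_option linter.style.haveILetI false

universe u v w

open TensorProduct

namespace Groth.Agent.MM50

variable {k : Type u} [Field k] {H : Type v} [Ring H] [Bialgebra k H]

/-- `(id ⊗ ψ) ∘ Δ`. -/
noncomputable def T (ψ : H →ₗ[k] k) : H →ₗ[k] H :=
  (TensorProduct.rid k H).toLinearMap ∘ₗ ψ.lTensor H ∘ₗ CoalgebraStruct.comul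

theorem T_one (ψ : H →ₗ[k] k) : T ψ 1 = ψ 1 • (1 : H) := by
  simp [T, Bialgebra.comul_one, Algebra.TensorProduct.one_def]

theorem T_mul {x : H} (hx : x ∈ SGA3y.primLie k H) (ψ : H →ₗ[k] k) (y : H) :
    T ψ (x * y) = x * T ψ y + T (ψ ∘ₗ LinearMap.mulLeft k x) y := by
  have hx' : CoalgebraStruct.comul (R := k) x = x ⊗ₜ[k] (1 : H) + (1 : H) ⊗ₜ[k] x := hx
  simp only [T, LinearMap.comp_apply, Bialgebra.comul_mul, hx']
  generalize CoalgebraStruct.comul (R := k) y = t
  induction t using TensorProduct.induction_on with
  | zero => simp
  | add a b ha hb => simp only [mul_add, map_add, ha, hb]; abel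
  | tmul a b => simp [add_mul, Algebra.TensorProduct.tmul_mul_tmul]

variable {ι : Type w} [LinearOrder ι] (x : ι → H) (hx : ∀ i, x i ∈ SGA3y.primLie k H)

/-- The monomial of a list. -/
def mon (l : List ι) : H := (l.map x).prod

theorem mon_nil : mon x ([] : List ι) = 1 := rfl

theorem mon_cons (a : ι) (l : List ι) : mon x (a :: l) = x a * mon x l := by simp [mon]

theorem mon_single (a : ι) : mon x [a] = x a := by simp [mon]

theorem T_x {a : ι} (hxa : x a ∈ SGA3y.primLie k H) (ψ : H →ₗ[k] k) :
    T ψ (x a) = ψ 1 • x a + ψ (x a) • (1 : H) := by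
  have := T_mul hxa ψ 1
  rw [mul_one, T_one, T_one] at this
  rw [this, mul_smul_comm, mul_one]
  simp

include hx in
/-- A functional vanishing on the proper nonempty sublists. -/
theorem T_mon : ∀ (w : List ι), w ≠ [] → ∀ ψ : H →ₗ[k] k,
    (∀ v : List ι, v.Sublist w → v ≠ [] → v ≠ w → ψ (mon x v) = 0) →
    T ψ (mon x w) = ψ 1 • mon x w + ψ (mon x w) • (1 : H) := by
  intro w
  induction w with
  | nil => intro h; exact absurd rfl h
  | cons a w ih =>
    intro _ ψ hψ
    by_cases hw : w = []
    · subst hw
      rw [mon_single]; exact T_x x (hx a) ψ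
    have hne : w ≠ a :: w := fun h => by
      have := congrArg List.length h
      simp at this
    have hw0 : ψ (mon x w) = 0 := hψ w (List.sublist_cons_self a w) hw hne
    have hxa : ψ (x a) = 0 := by
      rw [← mon_single x a]
      exact hψ [a] (by simp) (by simp) (fun h => hw (by simpa using h.symm))
    rw [mon_cons, T_mul (hx a), ih hw ψ, ih hw (ψ ∘ₗ LinearMap.mulLeft k (x a))]
    · simp [hw0, hxa]
    · intro v hv hv0 hvw
      rw [LinearMap.comp_apply, LinearMap.mulLeft_apply, ← mon_cons]
      exact hψ (a :: v) (hv.cons₂ a) (by simp) (by simpa using hvw)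
    · intro v hv hv0 hvw
      refine hψ v (hv.trans (List.sublist_cons_self a w)) hv0 fun h => ?_
      have := congrArg List.length h
      have := hv.length_le
      simp at *
      omega

include hx in
/-- A functional dual to `x i` on short monomials takes out one factor. -/
theorem T_coord (i : ι) : ∀ (w : List ι), w.SortedLE → ∀ φ : H →ₗ[k] k, φ 1 = 0 →
    (∀ j, φ (x j) = if j = i then 1 else 0) →
    (∀ v : List ι, v.Sublist w → 2 ≤ v.length → v ≠ w → φ (mon x v) = 0) →
    T φ (mon x w) = (w.count i : k) • mon x (w.erase i) +
      (if 2 ≤ w.length then φ (mon x w) else 0) • (1 : H) := by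
  intro w
  induction w with
  | nil => intro _ φ h1 _ _; simp [mon_nil, T_one, h1]
  | cons a w ih =>
    intro hs φ h1 hxj hφ
    have hsw : w.SortedLE := (List.pairwise_cons.1 hs.pairwise).2.sortedLE
    by_cases hw : w = []
    · subst hw
      rw [mon_single, T_x x (hx a), h1, zero_smul, zero_add, hxj]
      by_cases h : a = i
      · subst h; simp [mon_nil]
      · simp [h, List.count_cons, mon_nil]
    have hlen : 1 ≤ w.length := List.length_pos_iff.2 hw
    have hne : w ≠ a :: w := fun h => by
      have := congrArg List.length h
      simp at this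
    have hzero : (if 2 ≤ w.length then φ (mon x w) else 0) = 0 := by
      split_ifs with h
      · exact hφ w (List.sublist_cons_self a w) h hne
      · rfl
    rw [mon_cons, T_mul (hx a), ih hsw φ h1 hxj (fun v hv h2 hvw => hφ v (hv.trans (List.sublist_cons_self a w)) h2
        fun h => by
          have := congrArg List.length h
          have := hv.length_le
          simp at *
          omega), T_mon x hx w hw (φ ∘ₗ LinearMap.mulLeft k (x a)) (fun v hv hv0 hvw => by
        rw [LinearMap.comp_apply, LinearMap.mulLeft_apply, ← mon_cons]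
        refine hφ (a :: v) (hv.cons₂ a) ?_ (by simpa using hvw)
        have := List.length_pos_iff.2 hv0
        simp; omega)]
    rw [hzero, zero_smul, add_zero, mul_smul_comm, ← mon_cons, LinearMap.comp_apply, LinearMap.comp_apply,
      LinearMap.mulLeft_apply, LinearMap.mulLeft_apply, mul_one, hxj, ← mon_cons,
      if_pos (show 2 ≤ (a :: w).length by simp; omega), ← add_assoc]
    congr 1
    by_cases h : a = i
    · subst h
      rw [if_pos rfl, List.count_cons_self, List.erase_cons_head, one_smul, Nat.cast_add, Nat.cast_one, add_smul, one_smul]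
      congr 1
      by_cases hmem : a ∈ w
      · obtain ⟨b, t, rfl⟩ : ∃ b t, w = b :: t := List.exists_cons_of_ne_nil hw
        obtain rfl : b = a := by
          refine le_antisymm ?_ ((List.pairwise_cons.1 hs.pairwise).1 b (List.mem_cons_self))
          rcases List.mem_cons.1 hmem with rfl | hm
          · exact le_rfl
          · exact (List.pairwise_cons.1 hsw.pairwise).1 a hm
        rw [List.erase_cons_head]
      · rw [List.count_eq_zero_of_not_mem hmem]; simp
    · rw [if_neg h, zero_smul, add_zero, List.count_cons_of_ne h,
        List.erase_cons_tail (fun e => h (beq_iff_eq.1 e))]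

variable [CharZero k]

/-- A functional with prescribed values on an independent family. -/
theorem exists_fun {σ : Type*} {f : σ → H} (hf : LinearIndependent k f) (val : σ → k) :
    ∃ φ : H →ₗ[k] k, ∀ s, φ (f s) = val s := by
  obtain ⟨φ, hφ⟩ := LinearMap.exists_extend ((Module.Basis.span hf).constr k val)
  refine ⟨φ, fun s => ?_⟩
  have := LinearMap.congr_fun hφ (Module.Basis.span hf s)
  rw [Module.Basis.constr_basis, LinearMap.comp_apply, Submodule.subtype_apply, Module.Basis.span_apply] at this
  exact this

include hx in
/-- Independence of the ordered monomials. -/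
theorem linearIndependent_mon (hind : LinearIndependent k x) :
    LinearIndependent k fun l : {l : List ι // l.SortedLE} => mon x l.1 := by
  classical
  have hε : ∀ i, CoalgebraStruct.counit (R := k) (x i) = 0 := fun i => by
    have h := congrArg (TensorProduct.lid k H) (Coalgebra.rTensor_counit_comul (R := k) (x i))
    rw [show CoalgebraStruct.comul (R := k) (x i) = x i ⊗ₜ[k] (1 : H) + (1 : H) ⊗ₜ[k] x i from hx i] at h
    simp only [map_add, LinearMap.rTensor_tmul, TensorProduct.lid_tmul, Bialgebra.counit_one, one_smul,
      add_eq_right, smul_eq_zero] at h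
    rcases h with h | h
    · exact h
    · exact absurd (congrArg (CoalgebraStruct.counit (R := k)) h) (by simp)
  suffices h : ∀ n, LinearIndependent k fun l : {l : List ι // l.SortedLE ∧ l.length < n} => mon x l.1 by
    rw [linearIndependent_iff']
    intro s g hg l hl
    let n := s.sup (fun l => l.1.length) + 1
    let e : {l // l ∈ s} → {l : List ι // l.SortedLE ∧ l.length < n} := fun l =>
      ⟨l.1.1, l.1.2, Nat.lt_succ_of_le (Finset.le_sup (f := fun l : {l : List ι // l.SortedLE} => l.1.length) l.2)⟩
    have := (h n).comp e (fun a b hab => Subtype.ext (Subtype.ext (congrArg (fun z => z.1) hab :)))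
    exact Fintype.linearIndependent_iff.1 this (fun l => g l.1) (by rw [← hg, ← Finset.sum_coe_sort s]; rfl) ⟨l, hl⟩
  intro n
  induction n with
  | zero =>
    haveI : IsEmpty {l : List ι // l.SortedLE ∧ l.length < 0} := ⟨fun l => Nat.not_lt_zero _ l.2.2⟩
    exact linearIndependent_empty_type
  | succ n ih =>
    by_cases hn : n ≤ 1
    · rw [linearIndependent_iff']
      intro s g hg
      -- the constant term, then the linear terms
      have hz : ∀ l : {l : List ι // l.SortedLE ∧ l.length < n + 1}, l.1 = [] ∨ ∃ i, l.1 = [i] := fun l => by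
        rcases hl : l.1 with _ | ⟨i, _ | ⟨j, t⟩⟩
        · exact Or.inl rfl
        · exact Or.inr ⟨i, rfl⟩
        · have := l.2.2; simp [hl] at this; omega
      have h0 : ∀ l ∈ s, l.1 = [] → g l = 0 := fun l hl hnil => by
        have h := congrArg (CoalgebraStruct.counit (R := k)) hg
        rw [map_sum, map_zero, Finset.sum_eq_single_of_mem l hl] at h
        · simpa [hnil, mon_nil] using h
        · intro l' _ hne
          rcases hz l' with h' | ⟨i, h'⟩
          · exact absurd (Subtype.ext (h'.trans hnil.symm)) hne
          · simp [h', mon_single, hε]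
      intro l hl
      rcases hz l with hnil | ⟨i, hi⟩
      · exact h0 l hl hnil
      obtain ⟨φ, hφ⟩ := exists_fun hind (fun j => if j = i then 1 else 0)
      have h := congrArg φ hg
      rw [map_sum, map_zero, Finset.sum_eq_single_of_mem l hl] at h
      · simpa [hi, mon_single, hφ] using h
      · intro l' hl' hne
        rcases hz l' with h' | ⟨j, h'⟩
        · rw [map_smul, h0 l' hl' h', zero_smul]
        · have hji : j ≠ i := fun e => hne (Subtype.ext (by rw [h', hi, e]))
          simp [h', mon_single, hφ, hji]
    rw [linearIndependent_iff']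
    intro s g hg
    -- the top degree
    have htop : ∀ l ∈ s, l.1.length = n → g l = 0 := by
      intro l hl hln
      obtain ⟨i, t, hlt⟩ : ∃ i t, l.1 = i :: t := List.exists_cons_of_ne_nil (List.length_pos_iff.1 (by omega))
      obtain ⟨φ, hφ⟩ := exists_fun ih (fun v => if v.1 = [i] then 1 else 0)
      have htlen : t.length + 1 = n := by rw [← hln, hlt]; simp
      have hts : t.SortedLE := by
        have := l.2.1.pairwise
        rw [hlt] at this
        exact (List.pairwise_cons.1 this).2.sortedLE
      obtain ⟨Φ, hΦ⟩ := exists_fun ih (fun v => if v.1 = t then 1 else 0)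
      have hφ1 : φ 1 = 0 := (hφ ⟨[], List.Pairwise.sortedLE List.Pairwise.nil, by simp; omega⟩).trans (if_neg (by simp))
      have hΦ1 : Φ 1 = 0 := (hΦ ⟨[], List.Pairwise.sortedLE List.Pairwise.nil, by simp; omega⟩).trans
        (if_neg (fun e => by rw [← e] at htlen; simp at htlen; omega))
      have hφx : ∀ j, φ (x j) = if j = i then 1 else 0 := fun j => by
        rw [← mon_single x j, hφ ⟨[j], (List.pairwise_singleton _ j).sortedLE, by simp; omega⟩]
        simp
      have hval : ∀ l' : {l : List ι // l.SortedLE ∧ l.length < n + 1},
          Φ (T φ (mon x l'.1)) = if l' = l then (l.1.count i : k) else 0 := by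
        intro l'
        rw [T_coord x hx i l'.1 l'.2.1 φ hφ1 hφx (fun v hv h2 hvw => ?_), map_add, map_smul, map_smul, hΦ1, smul_zero,
          add_zero]
        · by_cases hm : i ∈ l'.1
          · have hlen := List.length_erase_of_mem hm
            have hlt' := l'.2.2
            rw [hΦ ⟨l'.1.erase i, ((l'.2.1.pairwise).sublist List.erase_sublist).sortedLE, by omega⟩]
            by_cases hll : l' = l
            · subst hll
              simp [hlt]
            · rw [if_neg hll]
              have hne : l'.1.erase i ≠ t := fun e => hll (Subtype.ext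
                (((List.perm_cons_erase hm).trans (by rw [e, ← hlt])).eq_of_pairwise' l'.2.1.pairwise l.2.1.pairwise))
              simp [hne]
          · rw [List.count_eq_zero_of_not_mem hm, Nat.cast_zero, zero_smul, if_neg]
            intro e
            exact hm (e ▸ hlt ▸ List.mem_cons_self)
        · have hvlen : v.length < n := by
            have h3 := hv.length_le
            have h4 : v.length ≠ l'.1.length := fun e => hvw (hv.eq_of_length e)
            have := l'.2.2
            omega
          rw [hφ ⟨v, ((l'.2.1.pairwise).sublist hv).sortedLE, hvlen⟩]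
          refine if_neg fun e => ?_
          have := congrArg List.length e
          simp at this
          omega
      have h := congrArg (fun z => Φ (T φ z)) hg
      simp only [map_sum, map_smul, map_zero, hval, smul_eq_mul, mul_ite, mul_zero, Finset.sum_ite_eq', hl, if_true] at h
      refine (mul_eq_zero.1 h).resolve_right (Nat.cast_ne_zero.2 ?_)
      exact List.count_pos_iff.2 (hlt ▸ List.mem_cons_self) |>.ne'
    -- the lower degrees
    intro l hl
    by_cases hln : l.1.length = n
    · exact htop l hl hln
    let P : {l : List ι // l.SortedLE ∧ l.length < n + 1} → Prop := fun l => l.1.length ≠ n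
    let emb : {x // x ∈ s.filter P} ↪ {l : List ι // l.SortedLE ∧ l.length < n} :=
      ⟨fun l => ⟨l.1.1, l.1.2.1, lt_of_le_of_ne (Nat.lt_succ_iff.1 l.1.2.2) (Finset.mem_filter.1 l.2).2⟩,
        fun a b hab => Subtype.ext (Subtype.ext (congrArg (fun z => z.1) hab :))⟩
    have hlow := linearIndependent_iff'.1 ih ((s.filter P).attach.map emb)
      (fun v => g ⟨v.1, v.2.1, v.2.2.trans (Nat.lt_succ_self n)⟩) (by
        rw [Finset.sum_map, ← hg]
        refine (Finset.sum_attach (s.filter P) (fun l => g l • mon x l.1)).trans ?_
        exact Finset.sum_filter_of_ne fun l hl hne hln => hne (by rw [htop l hl hln, zero_smul]))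
      ⟨l.1, l.2.1, lt_of_le_of_ne (Nat.lt_succ_iff.1 l.2.2) hln⟩
      (Finset.mem_map.2 ⟨⟨l, Finset.mem_filter.2 ⟨hl, hln⟩⟩, Finset.mem_attach _ _, rfl⟩)
    exact hlow

end Groth.Agent.MM50
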